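import Cfsg.Agent.H111.JM.ZD

/-!
# The pieces 8, 9 of the centralizer of `⟨y0, t1⟩` (generated, helper111, S5580)
-/

set_option autoImplicit false
set_option maxRecDepth 100000

namespace Cfsg.Agent.H111.JM.PZ

open Cfsg.Agent.H111.JM.EngR Cfsg.Agent.H111.JM.ZD

theorem z8 : pchk 112 LG tz pa8 pg8 kz8 = true := by decide +kernel

theorem z9 : pchk 112 LG tz pa9 pg9 kz9 = true := by decide +kernel

end Cfsg.Agent.H111.JM.PZ
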